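import Cfsg.Agent.ChevGrp.Thms
import Cfsg.Agent.Chev.Rules
import Cfsg.Agent.Chev.Main
import Cfsg.Agent.ChevGrp.Torus
import Cfsg.Prelude.Def_ChevG2

/-!
The diagonal subgroup of `G₂` in coordinates, and the rank one subgroups of the fundamental roots.
-/

set_option autoImplicit false

namespace Cfsg.Agent.G2Inv

open Cfsg.Lie Cfsg.Agent.ChevGrp
open scoped MatrixGroups

variable {F : Type*} [Field F]

abbrev i0 : Fin chevG2.rank := ⟨0, by decide⟩
abbrev i1 : Fin chevG2.rank := ⟨1, by decide⟩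

theorem rules (F : Type*) [Field F] : Rules chevG2 F := Chev.rules_of_mem F (by simp)

/-- The system of the matrix group. -/
noncomputable abbrev sys (F : Type*) [Field F] : Sys chevG2 F (GL chevG2.Idx F) := glSys (rules F)

theorem simple_zero : chevG2.simple i0 = 7 := by decide +kernel
theorem simple_one : chevG2.simple i1 = 6 := by decide +kernel
theorem nroots_eq : chevG2.nroots = 12 := rfl

/-- The character of the root `s` on the pair `(a, b)`. -/
def chi (a b : F) (s : ℕ) : F := a ^ chevG2.cartan 0 s * b ^ chevG2.cartan 1 s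

/-- `h_a(a) h_b(b)`. -/
noncomputable def hpair (a b : F) : GL chevG2.Idx F :=
  (sys F).hEl (chevG2.simple i0) a * (sys F).hEl (chevG2.simple i1) b

theorem hpair_mem {a b : F} (ha : a ≠ 0) (hb : b ≠ 0) : hpair a b ∈ (sys F).Hbar :=
  mul_mem ((sys F).hEl_simple_mem i0 ha) ((sys F).hEl_simple_mem i1 hb)

theorem hpair_one : hpair (1 : F) 1 = 1 := by
  obtain ⟨len, hR⟩ := (rules F).root
  rw [hpair, (sys F).hEl_one hR (hR.simple_lt _ i0.2), (sys F).hEl_one hR (hR.simple_lt _ i1.2), one_mul]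

theorem hpair_mul {a b a' b' : F} (ha : a ≠ 0) (hb : b ≠ 0) (ha' : a' ≠ 0) (hb' : b' ≠ 0) :
    hpair a b * hpair a' b' = hpair (a * a') (b * b') := by
  obtain ⟨len, hR⟩ := (rules F).root
  have hM := glSys_HMul (rules F) hR
  have hc := ((sys F).hEl_commute (rules F) hR hM i1 i0 hb ha').eq
  simp only [hpair]
  rw [← hM i0 a a' ha ha', ← hM i1 b b' hb hb', mul_assoc, ← mul_assoc ((sys F).hEl (chevG2.simple i1) b), hc]
  simp only [mul_assoc]

theorem hpair_inv {a b : F} (ha : a ≠ 0) (hb : b ≠ 0) : (hpair a b)⁻¹ = hpair a⁻¹ b⁻¹ := by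
  refine inv_eq_of_mul_eq_one_right ?_
  rw [hpair_mul ha hb (inv_ne_zero ha) (inv_ne_zero hb), mul_inv_cancel₀ ha, mul_inv_cancel₀ hb,
    hpair_one]

theorem exists_hpair {h : GL chevG2.Idx F} (hh : h ∈ (sys F).Hbar) :
    ∃ a b : F, a ≠ 0 ∧ b ≠ 0 ∧ h = hpair a b := by
  obtain ⟨len, hR⟩ := (rules F).root
  refine Subgroup.closure_induction ?_ ?_ ?_ ?_ hh
  · rintro _ ⟨i, c, hc, rfl⟩
    rcases i with ⟨i, hi⟩
    have hi2 : i < 2 := hi
    interval_cases i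
    · exact ⟨c, 1, hc, one_ne_zero, by rw [hpair, (sys F).hEl_one hR (hR.simple_lt _ i1.2), mul_one]⟩
    · exact ⟨1, c, one_ne_zero, hc, by rw [hpair, (sys F).hEl_one hR (hR.simple_lt _ i0.2), one_mul]⟩
  · exact ⟨1, 1, one_ne_zero, one_ne_zero, hpair_one.symm⟩
  · rintro _ _ _ _ ⟨a, b, ha, hb, rfl⟩ ⟨a', b', ha', hb', rfl⟩
    exact ⟨_, _, mul_ne_zero ha ha', mul_ne_zero hb hb', hpair_mul ha hb ha' hb'⟩
  · rintro _ _ ⟨a, b, ha, hb, rfl⟩
    exact ⟨_, _, inv_ne_zero ha, inv_ne_zero hb, hpair_inv ha hb⟩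

theorem chi_ne_zero {a b : F} (ha : a ≠ 0) (hb : b ≠ 0) (s : ℕ) : chi a b s ≠ 0 :=
  mul_ne_zero (zpow_ne_zero _ ha) (zpow_ne_zero _ hb)

theorem hpair_conj {a b : F} (ha : a ≠ 0) (hb : b ≠ 0) {s : ℕ} (hs : s < chevG2.nroots) (t : F) :
    hpair a b * (sys F).x s t * (hpair a b)⁻¹ = (sys F).x s (chi a b s * t) := by
  obtain ⟨len, hR⟩ := (rules F).root
  have e0 := (sys F).conjP_hI (rules F) hR i0 ha s hs (b ^ chevG2.cartan 1 s * t)
  have e1 := (sys F).conjP_hI (rules F) hR i1 hb s hs t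
  rw [hpair, mul_inv_rev, show chi a b s * t = a ^ chevG2.cartan (i0 : ℕ) s * (b ^ chevG2.cartan 1 s * t) from mul_assoc _ _ _,
    ← e0, show b ^ chevG2.cartan 1 s * t = b ^ chevG2.cartan (i1 : ℕ) s * t from rfl, ← e1]
  simp only [mul_assoc]

theorem hpair_mat {a b : F} (ha : a ≠ 0) (hb : b ≠ 0) :
    ((hpair a b : GL chevG2.Idx F) : Matrix chevG2.Idx chevG2.Idx F) =
      Matrix.diagonal (Sum.elim (fun _ => (1 : F)) fun s : Fin chevG2.nroots => chi a b s) := by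
  obtain ⟨len, hR⟩ := (rules F).root
  rw [hpair, Units.val_mul, ← glSys_mat (rules F), ← glSys_mat (rules F),
    (sys F).mat_hEl hR (hR.simple_lt _ i0.2), (sys F).mat_hEl hR (hR.simple_lt _ i1.2),
    (rules F).hMat_simple _ i0.2 a ha, (rules F).hMat_simple _ i1.2 b hb, Matrix.diagonal_mul_diagonal]
  congr 1
  funext i
  rcases i with i | i <;> simp [chi]

theorem chi_seven {a b : F} : chi a b 7 = a ^ 2 * b⁻¹ := by
  rw [chi, show chevG2.cartan 0 7 = (2 : ℤ) by decide +kernel,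
    show chevG2.cartan 1 7 = (-1 : ℤ) by decide +kernel, zpow_neg_one, zpow_ofNat]

theorem chi_six {a b : F} : chi a b 6 = (a ^ 3)⁻¹ * b ^ 2 := by
  rw [chi, show chevG2.cartan 0 6 = (-3 : ℤ) by decide +kernel,
    show chevG2.cartan 1 6 = (2 : ℤ) by decide +kernel, zpow_neg, zpow_ofNat, zpow_ofNat]

theorem chi_recover {a b : F} (ha : a ≠ 0) (hb : b ≠ 0) :
    a = chi a b 7 ^ 2 * chi a b 6 ∧ b = chi a b 7 ^ 3 * chi a b 6 ^ 2 := by
  rw [chi_seven, chi_six]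
  constructor <;> field_simp

theorem eq_of_chi {a b a' b' : F} (ha : a ≠ 0) (hb : b ≠ 0) (ha' : a' ≠ 0) (hb' : b' ≠ 0)
    (h7 : chi a b 7 = chi a' b' 7) (h6 : chi a b 6 = chi a' b' 6) : a = a' ∧ b = b' := by
  obtain ⟨e1, e2⟩ := chi_recover ha hb
  obtain ⟨e1', e2'⟩ := chi_recover ha' hb'
  exact ⟨e1.trans (by rw [h7, h6, ← e1']), e2.trans (by rw [h7, h6, ← e2'])⟩

theorem hpair_inj {a b a' b' : F} (ha : a ≠ 0) (hb : b ≠ 0) (ha' : a' ≠ 0) (hb' : b' ≠ 0)
    (h : hpair a b = hpair a' b') : a = a' ∧ b = b' := by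
  have e := congrArg (fun g : GL chevG2.Idx F => (g : Matrix chevG2.Idx chevG2.Idx F)) h
  simp only [hpair_mat ha hb, hpair_mat ha' hb', Matrix.diagonal_eq_diagonal_iff] at e
  exact eq_of_chi ha hb ha' hb' (e (Sum.inr ⟨7, by decide⟩)) (e (Sum.inr ⟨6, by decide⟩))

end Cfsg.Agent.G2Inv
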