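import Cfsg.Agent.G2Inv.Torus
import Mathlib.LinearAlgebra.Matrix.SpecialLinearGroup

/-!
The Weyl group action of `G₂` on roots and on the diagonal subgroup; rank one subgroups.
-/

set_option autoImplicit false

namespace Cfsg.Agent.G2Inv

open Cfsg.Lie Cfsg.Agent.ChevGrp
open scoped MatrixGroups

variable {F : Type*} [Field F]

/-- Reduced words for the twelve elements of the Weyl group. -/
def reps : List (List (Fin chevG2.rank)) :=
  [[], [i0], [i1], [i0, i1], [i1, i0], [i0, i1, i0], [i1, i0, i1], [i0, i1, i0, i1],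
    [i1, i0, i1, i0], [i0, i1, i0, i1, i0], [i1, i0, i1, i0, i1], [i0, i1, i0, i1, i0, i1]]

/-- The longest word. -/
def w0 : List (Fin chevG2.rank) := [i0, i1, i0, i1, i0, i1]

theorem reps_closed : ∀ i : Fin chevG2.rank, ∀ v ∈ reps, ∃ v' ∈ reps,
    (List.range 12).map (fun s => chevG2.reflectRoot i (act chevG2 v s)) =
      (List.range 12).map (act chevG2 v') := by
  decide +kernel

theorem exists_rep (w : List (Fin chevG2.rank)) :
    ∃ v ∈ reps, ∀ s < 12, act chevG2 w s = act chevG2 v s := by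
  induction w with
  | nil => exact ⟨[], by simp [reps], fun _ _ => rfl⟩
  | cons i w ih =>
    obtain ⟨v, hv, hs⟩ := ih
    obtain ⟨v', hv', e⟩ := reps_closed i v hv
    refine ⟨v', hv', fun s hs' => ?_⟩
    rw [List.map_inj_left] at e
    rw [act_cons, hs s hs', e s (List.mem_range.2 hs')]

theorem reps_involution : ∀ v ∈ reps, (∀ s < 12, act chevG2 v (act chevG2 v s) = s) →
    (∀ s < 12, act chevG2 v s = s) ∨ (∀ s < 12, act chevG2 v s = act chevG2 w0 s) ∨
      ∃ c ∈ reps, ∃ i : Fin chevG2.rank, ∀ s < 12, act chevG2 v s = act chevG2 (c ++ [i] ++ c.reverse) s := by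
  decide +kernel

/-- Roots centralized by the standard involution. -/
def fixedRoots : List ℕ := [0, 4, 7, 11]

theorem reps_stab : ∀ v ∈ reps,
    (∀ s < 12, fixedRoots.contains (act chevG2 v s) = fixedRoots.contains s) →
      (∀ s < 12, act chevG2 v s = s) ∨ (∀ s < 12, act chevG2 v s = act chevG2 [i0] s) ∨
        (∀ s < 12, act chevG2 v s = act chevG2 ([i1, i0] ++ [i1] ++ [i0, i1]) s) ∨
        (∀ s < 12, act chevG2 v s = act chevG2 ([i0] ++ ([i1, i0] ++ [i1] ++ [i0, i1])) s) := by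
  decide +kernel

theorem x_param_inj {r : ℕ} (hr : r < chevG2.nroots) {t u : F} (e : (sys F).x r t = (sys F).x r u) :
    t = u := by
  obtain ⟨len, hR⟩ := (rules F).root
  by_contra hne
  have e2 : (sys F).x r (t - u) = 1 := by
    rw [sub_eq_add_neg, ← (sys F).x_add r hr, ← (sys F).x_inv hr, e, mul_inv_cancel]
  have e3 : (sys F).x r (t - u) = (sys F).x (chevG2.neg r) 0 := by
    rw [e2, (sys F).x_zero (hR.neg_lt r hr)]
  exact hR.neg_ne hr ((sys F).x_root_inj hR hr (hR.neg_lt r hr) (sub_ne_zero.2 hne) e3).symm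

theorem eq_of_act {m : GL chevG2.Idx F} (hm : m ∈ (sys F).Nbar) {v : List (Fin chevG2.rank)}
    (hv : (sys F).ConjP m v) : ∃ h ∈ (sys F).Hbar, m = h * (sys F).nW v := by
  obtain ⟨len, hR⟩ := (rules F).root
  obtain ⟨h, hh, w, -, rfl⟩ := (sys F).mem_Nbar (rules F) hR hm
  have hc : (sys F).ConjP (h * (sys F).nW w) w := by
    simpa using ((sys F).conjP_Hbar (rules F) hR hh).mul hR ((sys F).conjP_nW (rules F) hR w)
  obtain ⟨k, hk, e⟩ := (sys F).nW_congr (rules F) hR (Sys.ConjP.act_unique _ hR hc hv)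
  exact ⟨h * k, mul_mem hh hk, by rw [e, mul_assoc]⟩

theorem conjP_congr {m : GL chevG2.Idx F} {v w : List (Fin chevG2.rank)} (h : (sys F).ConjP m w)
    (e : ∀ s < 12, act chevG2 w s = act chevG2 v s) : (sys F).ConjP m v := by
  obtain ⟨a, ha, hma⟩ := h
  exact ⟨a, ha, fun s hs t => by rw [hma s hs t, e s hs]⟩

theorem conj_hpair {g : GL chevG2.Idx F} {w : List (Fin chevG2.rank)} (hgN : g ∈ (sys F).Nbar)
    (hg : (sys F).ConjP g w) {a b a' b' : F} (ha : a ≠ 0) (hb : b ≠ 0) (ha' : a' ≠ 0) (hb' : b' ≠ 0)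
    {p q : ℕ} (hpl : p < 12) (hql : q < 12) (hp : act chevG2 w p = 7) (hq : act chevG2 w q = 6)
    (h7 : chi a b p = chi a' b' 7) (h6 : chi a b q = chi a' b' 6) :
    g * hpair a b * g⁻¹ = hpair a' b' := by
  obtain ⟨len, hR⟩ := (rules F).root
  obtain ⟨k, hk, e⟩ := eq_of_act hgN hg
  have hmem : g * hpair a b * g⁻¹ ∈ (sys F).Hbar := by
    have h1 := (sys F).nW_conj_Hbar (rules F) hR w (hpair_mem ha hb)
    have := mul_mem (mul_mem hk h1) (inv_mem hk)
    rw [e]
    simpa [mul_assoc] using this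
  obtain ⟨a2, b2, ha2, hb2, e2⟩ := exists_hpair hmem
  obtain ⟨c, hc, hgc⟩ := hg
  have key : ∀ r < chevG2.nroots, chi a2 b2 (act chevG2 w r) = chi a b r := by
    intro r hr
    have hc0 : c r ≠ 0 := right_ne_zero_of_mul_eq_one (hc r hr)
    have h1 := hgc r hr (c r)⁻¹
    rw [mul_inv_cancel₀ hc0] at h1
    have h2 := hgc r hr (chi a b r * (c r)⁻¹)
    rw [← hpair_conj ha hb hr, show c r * (chi a b r * (c r)⁻¹) = chi a b r by field_simp] at h2
    have h3 := hpair_conj ha2 hb2 (hR.act_lt w hr) (1 : F)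
    rw [← e2, ← h1, mul_one] at h3
    refine x_param_inj (hR.act_lt w hr) (h3.symm.trans ?_)
    rw [← h2]
    group
  have k7 := key p hpl
  have k6 := key q hql
  rw [hp, h7] at k7
  rw [hq, h6] at k6
  obtain ⟨rfl, rfl⟩ := eq_of_chi ha2 hb2 ha' hb' k7 k6
  exact e2

/-- Upper unitriangular elements of `SL₂`. -/
def upperT (t : F) : SL(2, F) := ⟨!![1, t; 0, 1], by simp [Matrix.det_fin_two]⟩

/-- Lower unitriangular elements of `SL₂`. -/
def lowerT (t : F) : SL(2, F) := ⟨!![1, 0; t, 1], by simp [Matrix.det_fin_two]⟩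

/-- The monomial elements of `SL₂`. -/
def monT (a : F) : SL(2, F) := upperT a * lowerT (-a⁻¹) * upperT a

/-- The diagonal elements of `SL₂`. -/
def diaT (a : F) : SL(2, F) := monT a * monT (-1)

theorem monT_val {a : F} (ha : a ≠ 0) : (monT a : Matrix (Fin 2) (Fin 2) F) = !![0, a; -a⁻¹, 0] := by
  show !![(1 : F), a; 0, 1] * !![(1 : F), 0; -a⁻¹, 1] * !![(1 : F), a; 0, 1] = _
  simp [Matrix.mul_fin_two, ha]

theorem diaT_val {a : F} (ha : a ≠ 0) : (diaT a : Matrix (Fin 2) (Fin 2) F) = !![a, 0; 0, a⁻¹] := by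
  rw [diaT, Matrix.SpecialLinearGroup.coe_mul, monT_val ha, monT_val (neg_ne_zero.2 one_ne_zero)]
  simp [Matrix.mul_fin_two]

/-- The properties of the rank one homomorphism of a root. -/
structure RankOneHom (r : ℕ) (φ : SL(2, F) →* GL chevG2.Idx F) : Prop where
  upper : ∀ t : F, φ (upperT t) = (sys F).x r t
  lower : ∀ t : F, φ (lowerT t) = (sys F).x (chevG2.neg r) t
  range : φ.range = (sys F).US {r} ⊔ (sys F).US {chevG2.neg r}

theorem exists_rankOneHom (F : Type*) [Field F] {r : ℕ} (hr : r < chevG2.nroots) :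
    ∃ φ : SL(2, F) →* GL chevG2.Idx F, RankOneHom r φ := by
  obtain ⟨C, hV⟩ := Chev.exists_valid (D := chevG2) (by simp)
  obtain ⟨φ, h1, h2⟩ := hV.exists_sl2 (F := F) hr
  refine ⟨φ, fun t => Units.ext ?_, fun t => Units.ext ?_, ?_⟩
  · exact ((h2 (upperT t) t).1 rfl).trans (val_xGL (rules F) r t).symm
  · exact ((h2 (lowerT t) t).2 rfl).trans (val_xGL (rules F) (chevG2.neg r) t).symm
  · rw [h1, rootSubgroup_eq (rules F), rootSubgroup_eq (rules F)]

namespace RankOneHom

variable {r : ℕ} {φ : SL(2, F) →* GL chevG2.Idx F}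

theorem mon (h : RankOneHom r φ) (a : F) : φ (monT a) = (sys F).nEl r a := by
  rw [monT, map_mul, map_mul, h.upper, h.lower]; rfl

theorem dia (h : RankOneHom r φ) (a : F) : φ (diaT a) = (sys F).hEl r a := by
  rw [diaT, map_mul, h.mon, h.mon]; rfl

theorem conj_lower (h : RankOneHom r φ) (s : F) :
    (sys F).nEl r 1 * (sys F).x (chevG2.neg r) s * ((sys F).nEl r 1)⁻¹ = (sys F).x r (-s) := by
  have e : monT (1 : F) * lowerT s = upperT (-s) * monT 1 := Subtype.ext (by
    rw [Matrix.SpecialLinearGroup.coe_mul, Matrix.SpecialLinearGroup.coe_mul, monT_val one_ne_zero]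
    simp [lowerT, upperT, Matrix.mul_fin_two])
  rw [← h.mon, ← h.lower, ← h.upper, ← map_mul, e, map_mul, mul_inv_cancel_right]

theorem nEl_sq (h : RankOneHom r φ) : (sys F).nEl r 1 * (sys F).nEl r 1 = (sys F).hEl r (-1) := by
  have e : monT (1 : F) * monT 1 = diaT (-1) := Subtype.ext (by
    rw [Matrix.SpecialLinearGroup.coe_mul, monT_val one_ne_zero, diaT_val (neg_ne_zero.2 one_ne_zero)]
    simp [Matrix.mul_fin_two])
  rw [← h.mon, ← h.dia, ← map_mul, e]

end RankOneHom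

end Cfsg.Agent.G2Inv
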